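import Cfsg.Agent.FK.Fus
import Cfsg.Agent.H1.SZConj
import Cfsg.Agent.RFS.Uniq

/-! Project FK: uniqueness and complements.  See `notes/FK.md`. -/

set_option autoImplicit false
set_option linter.unusedSectionVars false

namespace Cfsg.Agent.FK

open RFS (Au)
open SR3 (nm ce St)
open scoped commutatorElement

universe v

variable {H : Type*} {G : Type v} [Group H] [Group G] [Finite H] [Finite G] {p : ℕ} [Fact p.Prime] {u : H →* G}
  {Q T : Subgroup H} {G' : Type*} [Group G'] [Finite G'] {u' : H →* G'}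

namespace Uniq

universe w in
theorem shrink {Ω : Type w} [Group Ω] {S : Subgroup Ω} {F : FusionSystem S} {K : Type*} [Group K] [Finite K]
    {ι : S →* K} (h : F.IsRealizedBy ι) (T : Sylow p K) (hT : (T : Subgroup K) = ι.range) : F.IsRealizable p := by
  have e : K ≃* Shrink.{w} K := Shrink.mulEquiv.symm
  obtain ⟨h1, h2⟩ := h
  refine ⟨_, _, .of_equiv _ e.toEquiv, e.toMonoidHom.comp ι, ⟨e.injective.comp h1, fun P hP φ hφ => (h2 P hP φ hφ).trans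
    ⟨fun ⟨g, hg⟩ => ⟨e g, fun x => ?_⟩, fun ⟨g, hg⟩ => ⟨e.symm g, fun x => e.injective ?_⟩⟩⟩,
    T.mapSurjective (f := e.toMonoidHom) e.surjective, ?_⟩
  · simp [hg x]
  · simpa using hg x
  · refine (Sylow.coe_mapSurjective _ _).trans ?_
    rw [hT, MonoidHom.range_comp]

theorem finA : Finite (MulAut H) := .of_injective (fun γ : MulAut H => (γ : H → H)) DFunLike.coe_injective

theorem iter (α : MulAut H) (k : ℕ) (a : H) : (α ^ k) a = α^[k] a := by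
  induction k generalizing a with
  | zero => rfl
  | succ k ih => rw [pow_succ, MulAut.mul_apply, ih, Function.iterate_succ_apply]

theorem cop_inn (h : Sat p u) {α : MulAut H} (hα : In u ⊤ α) :
    ∃ k, Nat.Coprime k p ∧ α ^ k ∈ (MulAut.conj : H →* _).range :=
  let ⟨k, hk, s, e⟩ := h.cop ⟨.equiv α, hα⟩
  ⟨k, hk, s, MulEquiv.ext fun a => by rw [iter, e]; rfl⟩

end Uniq

open Uniq

theorem Two.uniq (h : Two p u Q T) (h0 : ∀ f, Fa u ⊤ f → In u' ⊤ f) (hQ : ∀ f, Fa u Q f → In u' Q f)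
    (hT : ∀ f, Fa u T f → In u' T f) {X : Subgroup H} {f : H → H} (hf : In u X f) : In u' X f := by
  obtain ⟨g, hg⟩ := hf
  have hM : H91.M (groupFusionSystem u.range) (X.map u) fun x => g * x * g⁻¹ :=
    H91.M_group_iff.2 ⟨Subgroup.map_le_range u X, by
      rintro _ ⟨a, ha, rfl⟩
      exact ⟨_, (hg a ha).symm⟩, g, fun _ _ => rfl⟩
  obtain ⟨g', e⟩ := H91.alperin_induction h.sat.pg_range h.sat.sat
    (C := fun F => ∃ g' : G', ∀ a ∈ X, ∀ b, F (u a) = u b → g' * u' a * g'⁻¹ = u' b)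
    (fun F hF => ⟨1, fun a ha b e => by
      rw [hF _ ⟨a, ha, rfl⟩] at e
      rw [h.sat.inj e]; group⟩)
    (fun F F' R α _ ⟨g', e⟩ hR hα h1 h2 => by
      obtain ⟨A, rfl, hA⟩ : ∃ A : Subgroup H, R = A.map u ∧ ∀ f, Fa u A f → In u' A f := by
        rcases hR with rfl | hR
        · exact ⟨⊤, MonoidHom.range_eq_map u, h0⟩
        · rcases h.ess' hR with ⟨rfl, -⟩ | ⟨rfl, -⟩
          · exact ⟨Q, rfl, hQ⟩
          · exact ⟨T, rfl, hT⟩
      obtain ⟨x, hx, rfl⟩ := (SR3.fus_mem_aut (Subgroup.map_le_range u A)).1 hα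
      obtain ⟨φ, hφ', eφ⟩ := Fa.of_nm h.sat.inj hx
      obtain ⟨x', ex⟩ := hA φ hφ'
      refine ⟨x' * g', fun a ha b eb => ?_⟩
      have m := h1 _ ⟨a, ha, rfl⟩
      rw [h2 _ ⟨a, ha, rfl⟩, H91.efn_cjAut _ _ _ m] at eb
      obtain ⟨c, hc, ec⟩ := m
      rw [← ec, eφ c hc] at eb
      rw [← h.sat.inj eb, ← ex c hc, ← e a ha c ec.symm]
      group) hM
  exact ⟨g', fun a ha => e a ha _ (hg a ha)⟩

/-- a system with the same morphisms as that of a Sylow subgroup is realizable, also after transport -/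
theorem realizable_of {Ω : Type*} [Group Ω] {S : Subgroup Ω} [Finite S] {F : FusionSystem S} {j : Ω → G}
    {k : G → Ω} (i : H92.FIso F (groupFusionSystem u.range) j k) (hu : Function.Injective u)
    (hu' : Function.Injective u') (hp : IsPGroup p H) (h1 : ∀ X f, In u X f ↔ In u' X f)
    (ho : ¬ p ∣ u'.range.index) : F.IsRealizable p := by
  obtain ⟨i', f⟩ := RFS.Uniq.fiso hu hu' fun X f g e => (h1 X f).1 ⟨g, e⟩
  have I : H92.FIso _ _ _ _ := ⟨i', f _ _, (RFS.Uniq.fiso hu' hu fun X f g e => (h1 X f).2 ⟨g, e⟩).2 _ _⟩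
  obtain ⟨a, b⟩ := (i.trans I).isRealizedBy (H92.realizedBy_subtype _)
  exact shrink a ((hp.of_surjective _ u'.rangeRestrict_surjective).toSylow ho)
    ((Subgroup.range_subtype _).symm.trans b.symm)

theorem realizable_of_fIso {Ω : Type*} [Group Ω] {S : Subgroup Ω} [Finite S] {F : FusionSystem S} {R : Subgroup G}
    {j : Ω → G} {k : G → Ω} (i : H92.FIso F (groupFusionSystem R) j k)
    (h : (groupFusionSystem R).IsRealizable p) : F.IsRealizable p := by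
  obtain ⟨K, _, _, ι, h1, T, hT⟩ := h
  exact shrink (i.isRealizedBy h1).1 T (hT.trans (i.isRealizedBy h1).2.symm)

/-- a complement to the inner automorphisms -/
theorem Sat.compl (h : Sat p u) : ∃ X ≤ Gam u, ¬ p ∣ Nat.card X ∧
    ∀ α ∈ Gam u, ∃ s : H, ∃ x ∈ X, α = MulAut.conj s * x := by
  have := finA (H := H)
  have hp : p.Prime := Fact.out
  obtain ⟨N, hN⟩ : ∃ N : Subgroup (Gam u), N = (MulAut.conj : H →* _).range.subgroupOf (Gam u) := ⟨_, rfl⟩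
  have nr : N.Normal := hN ▸ ⟨fun a ⟨s, e⟩ b => ⟨(b : MulAut H) s, MulEquiv.ext fun x => by
    have e' : MulAut.conj s = (a : MulAut H) := e
    show _ = ((b : MulAut H) * a * (b : MulAut H)⁻¹) x
    rw [← e']
    simp⟩⟩
  have p2 : IsPGroup p N :=
    hN ▸ (h.pg.of_surjective _ (MulAut.conj : H →* _).rangeRestrict_surjective).comap_subtype
  have od : ¬ p ∣ N.index := fun hd => by
    obtain ⟨a, ha⟩ := exists_prime_orderOf_dvd_card' (G := Gam u ⧸ N) p hd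
    obtain ⟨a, rfl⟩ := QuotientGroup.mk_surjective a
    obtain ⟨k, hk, e⟩ := cop_inn h a.2
    have h1 : a ^ k ∈ N := hN ▸ e
    rw [← QuotientGroup.eq_one_iff, QuotientGroup.mk_pow, ← orderOf_dvd_iff_pow_eq_one, ha] at h1
    exact (hp.coprime_iff_not_dvd.1 hk.symm) h1
  obtain ⟨n, hn⟩ := p2.exists_card_eq
  obtain ⟨X, hX⟩ := Subgroup.exists_right_complement'_of_coprime (N := N)
    (hn ▸ (hp.coprime_iff_not_dvd.2 od).pow_left n)
  refine ⟨X.map (Gam u).subtype, Subgroup.map_subtype_le _, ?_, fun α hα => ?_⟩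
  · rwa [Subgroup.card_map_of_injective (Gam u).subtype_injective, ← hX.symm.index_eq_card]
  · obtain ⟨⟨⟨a, ha⟩, x⟩, e⟩ := (hX.existsUnique ⟨α, hα⟩).exists
    subst hN
    obtain ⟨s, hs⟩ := ha
    exact ⟨s, x, ⟨x, x.2, rfl⟩, hs ▸ (congrArg Subtype.val e).symm⟩

/-- Schur–Zassenhaus conjugacy in the form needed -/
theorem conj_into {Γ : Type*} [Group Γ] [Finite Γ] {A St X : Subgroup Γ} [A.Normal] (hA : IsPGroup p A)
    (hi : A ⊓ St = ⊥) (hX : ¬ p ∣ Nat.card X) (hle : ∀ x ∈ X, ∃ a ∈ A, a * x ∈ St) :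
    ∃ θ ∈ A, ∀ x ∈ X, θ * x * θ⁻¹ ∈ St := by
  have _ := hi
  obtain ⟨n, hn⟩ := hA.exists_card_eq
  obtain ⟨β, hβ, e⟩ := H1.glauberman_fixed X A Subgroup.le_normalizer_of_normal
    (hn ▸ (((Fact.out : p.Prime).coprime_iff_not_dvd.2 hX).pow_left n).symm)
    (Or.inr (have := hA.isNilpotent; inferInstance)) St fun x hx =>
      let ⟨a, ha, e⟩ := hle x hx
      ⟨a⁻¹, inv_mem ha, by rwa [inv_inv]⟩
  exact ⟨β⁻¹, inv_mem hβ, fun x hx => by rw [inv_inv]; exact e x hx⟩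

/-- twisting so that all automorphisms are standard -/
theorem Sat.exists_std (h : Sat p u) {St : Subgroup (MulAut H)}
    (k : ∀ X : Subgroup (MulAut H), ¬ p ∣ Nat.card X → ∃ θ, ∀ x ∈ X, θ * x * θ⁻¹ ∈ St) :
    ∃ β : H ≃* H, ∀ F, Fa (u.comp β.toMonoidHom) ⊤ F → ∃ s : H, ∃ x ∈ St, ∀ a, F a = s * x a * s⁻¹ := by
  obtain ⟨X, -, h1, h2⟩ := h.compl
  obtain ⟨θ, hθ⟩ := k X h1
  refine ⟨(θ⁻¹ : MulAut H), fun F hF => ?_⟩
  obtain ⟨g, hg⟩ := hF.ind
  obtain ⟨α, hα⟩ : ∃ α : MulAut H, ∀ a, α a = F a := ⟨hF.au.toEquiv, fun _ => rfl⟩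
  obtain ⟨s, x, hx, e⟩ := h2 (θ⁻¹ * α * θ) ⟨g, fun a _ => by
    have := hg (θ a) trivial
    simpa [hα] using this⟩
  refine ⟨θ s, _, hθ x hx, fun a => ?_⟩
  have e1 : α = θ * MulAut.conj s * θ⁻¹ * (θ * x * θ⁻¹) := by
    rw [show α = θ * (θ⁻¹ * α * θ) * θ⁻¹ by group, e]; group
  rw [← hα, e1]
  simp

/-- a group of induced automorphisms that meets the inner ones trivially has order prime to `p` -/
theorem Sat.not_dvd (h : Sat p u) {Φ : Type*} [Group Φ] [Finite Φ] (θ : Φ →* MulAut H) (h1 : ∀ φ, In u ⊤ (θ φ))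
    (h2 : ∀ φ (s : H), (∀ a, θ φ a = s * a * s⁻¹) → φ = 1) : ¬ p ∣ Nat.card Φ := fun hd => by
  obtain ⟨φ, hφ⟩ := exists_prime_orderOf_dvd_card' p hd
  obtain ⟨k, hk, s, e⟩ := cop_inn h (h1 φ)
  have := h2 (φ ^ k) s fun a => by rw [map_pow, ← e]; rfl
  rw [← orderOf_dvd_iff_pow_eq_one, hφ] at this
  exact ((Fact.out : p.Prime).coprime_iff_not_dvd.1 hk.symm) this

/-- Lang's map modulo the centre -/
theorem lang {A Z : Subgroup H} {τ : H → H} (hτ : Au A τ) (hZ : Z ≤ A) (hc : ∀ z ∈ Z, ∀ a ∈ A, z * a = a * z)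
    (hf : ∀ b ∈ A, b⁻¹ * τ b ∈ Z → b ∈ Z) {s : H} (hs : s ∈ A) :
    ∃ b ∈ A, ∃ z ∈ Z, s = b⁻¹ * τ b * z := by
  have _ := hZ
  let φ : A ⧸ Z.subgroupOf A → A ⧸ Z.subgroupOf A := fun q =>
    ((⟨(q.out : H)⁻¹ * τ q.out, mul_mem (inv_mem q.out.2) (hτ.mem _ q.out.2)⟩ : A) : A ⧸ Z.subgroupOf A)
  have inj : Function.Injective φ := fun q q' e => by
    have h1 : ((q.out : H)⁻¹ * τ q.out)⁻¹ * ((q'.out : H)⁻¹ * τ q'.out) ∈ Z :=
      (QuotientGroup.eq (s := Z.subgroupOf A)).1 e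
    rw [← q.out_eq', ← q'.out_eq']
    generalize q.out = b, q'.out = c at h1
    obtain ⟨b, hb⟩ := b
    obtain ⟨c, hc'⟩ := c
    have h2 := hf (c * b⁻¹) (mul_mem hc' (inv_mem hb)) (by
      have := hc _ h1 _ (hτ.mem b hb)
      rw [hτ.mul _ hc' _ (inv_mem hb), hτ.map_inv hb]
      convert h1 using 1
      calc _ = τ b * ((b⁻¹ * τ b)⁻¹ * (c⁻¹ * τ c)) * (τ b)⁻¹ := by group
        _ = _ := by rw [← this]; group)
    refine QuotientGroup.eq.2 ?_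
    change b⁻¹ * c ∈ Z
    convert h2 using 1
    calc _ = b⁻¹ * (c * b⁻¹ * b) := by group
      _ = _ := by rw [hc _ h2 b hb]; group
  obtain ⟨q, e⟩ := Finite.surjective_of_injective inj ((⟨s, hs⟩ : A) : A ⧸ Z.subgroupOf A)
  exact ⟨q.out, q.out.2, _, (QuotientGroup.eq (s := Z.subgroupOf A)).1 e, (mul_inv_cancel_left _ _).symm⟩

/-- rigidity: if `ω` commutes with a commutative family `t` modulo inner automorphisms and `t k₀` has no fixed points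
modulo the centre, then `ω` commutes with the family after an inner modification -/
theorem rigid {A Z : Subgroup H} {J : Type*} {t : J → H → H} {ω : H → H} (hω : Au A ω) (ht : ∀ k, Au A (t k))
    (hZ : ∀ z, z ∈ Z ↔ z ∈ A ∧ ∀ a ∈ A, z * a = a * z) (cm : ∀ k k', ∀ a ∈ A, t k (t k' a) = t k' (t k a))
    {k₀ : J} (hf : ∀ b ∈ A, b⁻¹ * t k₀ b ∈ Z → b ∈ Z)
    (h : ∀ k, ∃ s ∈ A, ∀ a ∈ A, ω (t k a) = s * t k (ω a) * s⁻¹) :
    ∃ b ∈ A, ∀ k, ∀ a ∈ A, b * ω (t k a) * b⁻¹ = t k (b * ω a * b⁻¹) := by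
  obtain ⟨s₀, hs₀, e₀⟩ := h k₀
  obtain ⟨b, hb, z, hz, rfl⟩ := lang (ht k₀) (fun z hz => ((hZ z).1 hz).1) (fun z hz => ((hZ z).1 hz).2) hf hs₀
  have w : Au A fun a => b * ω a * b⁻¹ := (Au.conj b fun a ha => mul_mem (mul_mem hb ha) (inv_mem hb)).comp hω
  have e1 : ∀ a ∈ A, b * ω (t k₀ a) * b⁻¹ = t k₀ (b * ω a * b⁻¹) := fun a ha => by
    rw [e₀ a ha, (ht k₀).map_conj hb (hω.mem a ha)]
    calc _ = t k₀ b * (z * t k₀ (ω a)) * z⁻¹ * (t k₀ b)⁻¹ := by group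
      _ = _ := by rw [((hZ z).1 hz).2 _ ((ht k₀).mem _ (hω.mem a ha))]; group
  refine ⟨b, hb, fun k => ?_⟩
  obtain ⟨s, hs, e⟩ := h k
  obtain ⟨r, hr, e2⟩ : ∃ r ∈ A, ∀ a ∈ A, b * ω (t k a) * b⁻¹ = r * t k (b * ω a * b⁻¹) * r⁻¹ :=
    ⟨b * s * (t k b)⁻¹, mul_mem (mul_mem hb hs) (inv_mem ((ht k).mem b hb)), fun a ha => by
      rw [e a ha, (ht k).map_conj hb (hω.mem a ha)]; group⟩
  have hrZ := hf r hr ((hZ _).2 ⟨mul_mem (inv_mem hr) ((ht k₀).mem r hr), fun c hc => by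
    obtain ⟨a, ha, rfl⟩ := ((ht k₀).comp ((ht k).comp w)).sur c hc
    have e3 := e2 _ ((ht k₀).mem a ha)
    rw [e1 a ha, cm k k₀ a ha, e1 _ ((ht k).mem a ha), e2 a ha, cm k k₀ _ (w.mem a ha),
      (ht k₀).map_conj hr ((ht k).mem _ (w.mem a ha))] at e3
    calc _ = r⁻¹ * (t k₀ r * t k₀ (t k (b * ω a * b⁻¹)) * (t k₀ r)⁻¹) * t k₀ r := by group
      _ = _ := by rw [e3]; group⟩)
  intro a ha
  rw [e2 a ha, ((hZ r).1 hrZ).2 _ ((ht k).mem _ (w.mem a ha)), mul_inv_cancel_right]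

end Cfsg.Agent.FK
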