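import Cfsg.Agent.FK.Iv
import Cfsg.Agent.RFS.Ess
import Cfsg.Agent.H92.Model

/-! Project FK: consequences of saturation.  See `notes/FK.md`. -/

set_option autoImplicit false
set_option linter.unusedSectionVars false

namespace Cfsg.Agent.FK

open RFS (Au)
open SR3 (nm ce St)
open scoped commutatorElement

variable {H G : Type*} [Group H] [Group G] [Finite H] [Finite G] {p : ℕ} [Fact p.Prime] {u : H →* G}
  {A B Q T : Subgroup H} {f : H → H}

namespace Fus

theorem nm_of_Nm {x : H} (h : Nm A x) : u x ∈ nm (A.map u) :=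
  nm_of_ind (f := fun a => x * a * x⁻¹) h fun a _ => by simp

theorem range_nm (h : ∀ s, Nm A s) : u.range ≤ nm (A.map u) := by
  rintro _ ⟨s, rfl⟩
  exact nm_of_Nm (h s)

theorem iter {F : H → H} {x : G} (hx : ∀ a, x * u a * x⁻¹ = u (F a)) (m : ℕ) (a : H) :
    x ^ m * u a * (x ^ m)⁻¹ = u (F^[m] a) := by
  induction m with
  | zero => simp
  | succ m ih => rw [Function.iterate_succ_apply', ← hx, ← ih, pow_succ']; group

end Fus

theorem Sat.pg_range (h : Sat p u) : IsPGroup p u.range := h.pg.of_surjective _ u.rangeRestrict_surjective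

theorem Sat.loc (h : Sat p u) (hA : ∀ s, Nm A s) : SR3.Loc p u.range (A.map u) := by
  have := SR3.loc_of h.pg_range h.sat (H91.isFullyNormalized_of_normal (groupFusionSystem u.range)
    (P := A.map u) (Subgroup.map_le_range u A) (Fus.range_nm hA))
  rwa [inf_eq_left.2 (Fus.range_nm hA)] at this

open Subgroup SR3 in
/-- the strongly embedded subgroup is the group of automorphisms that extend to a larger subgroup -/
theorem exists_M {S E : Subgroup G} (hS : IsPGroup p S) (hF : (groupFusionSystem S).IsSaturated p)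
    (hE : (groupFusionSystem S).IsEssential p E) : ∃ M : Subgroup G, (S ⊓ nm E) ⊔ ce E ≤ M ∧ M ≤ nm E ∧
      ¬ nm E ≤ M ∧ ∀ g ∈ nm E, ∀ x ∈ S ⊓ nm E, x ∉ E → g * x * g⁻¹ ∈ M → g ∈ M := by
  obtain ⟨hlt, hfn, hne⟩ := (H91.isEssential_iff hS hF).1 hE
  have hES := hlt.le
  obtain ⟨M, hM0, hM⟩ : ∃ M : Subgroup G, M ≤ nm E ∧ ∀ g, ∀ hg : g ∈ nm E,
      g ∈ M ↔ H91.cjAut E g hg ∈ H91.extAut (groupFusionSystem S) E :=
    ⟨((H91.extAut (groupFusionSystem S) E).comap E.normalizerMonoidHom).map (nm E).subtype,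
      map_subtype_le _, fun g hg => mem_map_iff_mem (nm E).subtype_injective (x := ⟨g, hg⟩)⟩
  have hle := H91.extAut_le_autGroup (groupFusionSystem S) E
  have hle' := H91.autInducedBy_le_extAut (groupFusionSystem S) hlt
  refine ⟨M, fun g hg => ?_, hM0, fun e => hne (le_antisymm hle fun α hα => ?_), fun g hg x hx hx' e => ?_⟩
  · have hg' : g ∈ nm E := (sup_le inf_le_right (ce_le_nm le_rfl) : _ ≤ nm E) hg
    exact (hM g hg').2 (hle' ((fus_mem_autS hg').2 hg))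
  · obtain ⟨g, hg, rfl⟩ := (fus_mem_aut hES).1 hα
    exact (hM g hg).1 (e hg)
  · have hn := mul_mem (mul_mem hg hx.2) (inv_mem hg)
    have e1 := (hM _ hn).1 e
    rw [H93.cjAut_mul E (mul_mem hg hx.2) (inv_mem hg), H93.cjAut_mul E hg hx.2,
      H93.cjAut_inv E hg] at e1
    have := H91.finite_mulAut hES
    obtain ⟨k, hk⟩ := H91.pow_eq_one_of_mem_isPGroup (H91.isPGroup_autInducedBy hS E)
      (H91.cjAut_mem_autInducedBy hx.1 hx.2)
    obtain ⟨a, ha, e2⟩ := ((H91.sat_sylIn hS hF hfn).of_le hle' hle).exists_conj_mem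
      (H91.isPGroup_zpowers_of_pow ⟨k, by rw [conj_pow, hk]; simp⟩) (zpowers_le.2 e1)
    have h2 := H91.mem_extAut_of_not_le (H91.sat_receptive' hS hF hfn)
      (mul_mem (hle ha) ((fus_mem_aut hES).2 ⟨g, hg, rfl⟩)) fun h => hx'
      (h (H91.mem_extSub_of_conj_mem hx (by
        convert e2 _ (mem_zpowers _) using 1; group)))
    exact (hM g hg).2 ((Subgroup.mul_mem_cancel_left _ ha).1 h2)

theorem Sat.pr (h : Sat p u) {E : Subgroup G} (hE : (groupFusionSystem u.range).IsEssential p E) :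
    Pr p u (E.comap u) (nm E) := by
  have es := SPQ.es_of h.pg_range h.sat hE
  have e0 : (E.comap u).map u = E := Subgroup.map_comap_eq_self es.le
  obtain ⟨M, h1, -, h3, h4⟩ := exists_M h.pg_range h.sat hE
  refine ⟨h.pg, h.inj, fun e => es.ne ?_, fun x hx => es.cen ⟨⟨x, rfl⟩, SR3.mem_ce.2 fun e he => ?_⟩,
    by rw [e0], by rw [NC, e0]; exact sup_le inf_le_right (SR3.ce_le_nm le_rfl),
    by rw [NC, e0]; exact es.loc.syl, M, by rwa [NC, e0], h3, fun g hg x hx hx' e =>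
      h4 g hg (u x) ⟨⟨x, rfl⟩, e0 ▸ Fus.nm_of_Nm hx⟩ hx' e⟩
  · rintro _ ⟨a, rfl⟩
    exact (e.ge trivial : a ∈ E.comap u)
  · obtain ⟨a, rfl⟩ := es.le he
    rw [← map_mul, ← map_mul, hx a he]

theorem Sat.cop (h : Sat p u) {F : H → H} (hF : Fa u ⊤ F) :
    ∃ k, Nat.Coprime k p ∧ ∃ s, ∀ a, F^[k] a = s * a * s⁻¹ := by
  obtain ⟨x, hx⟩ := hF.ind
  have xn : x ∈ SR3.nm u.range := by
    rw [MonoidHom.range_eq_map]; exact nm_of_ind hF.au.mem hx
  obtain ⟨m, hm, e⟩ := (SR3.Rows.loc_top h.pg_range h.sat).cop xn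
  obtain ⟨_, ⟨s, rfl⟩, c, hc, e⟩ :=
    (SR3.mem_sup_of_nm fun g hg => SR3.nm_ce (Subgroup.le_normalizer hg)).1 e
  refine ⟨m, hm, s, fun a => h.inj ?_⟩
  rw [← Fus.iter (fun a => hx a trivial), ← e, map_mul, map_mul, map_inv]
  calc u s * c * u a * (u s * c)⁻¹ = u s * (c * u a) * c⁻¹ * (u s)⁻¹ := by group
    _ = _ := by rw [← SR3.mem_ce.1 hc (u a) ⟨a, rfl⟩]; group

open SR3 in
theorem Sat.not_ext (h : Sat p u) (hE : (groupFusionSystem u.range).IsEssential p (A.map u))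
    (hn : ∀ s, Nm A s) : ∃ f, Fa u A f ∧ ¬ Ext u A f := by
  by_contra hx
  push Not at hx
  have es := SPQ.es_of h.pg_range h.sat hE
  have nS : u.range ≤ nm (A.map u) := Fus.range_nm hn
  refine es.ne fun s hs => es.rad (u.range ⊔ ce (A.map u)) (sup_le nS (ce_le_nm le_rfl)) (fun g hg => ?_)
    (fun g hg => ?_) ⟨hs, Subgroup.mem_sup_left hs⟩
  · obtain ⟨f, hf, e⟩ := Fa.of_nm h.inj hg
    obtain ⟨F, hF, e'⟩ := hx f hf
    obtain ⟨g', hg'⟩ := hF.ind
    have n1 : g' ∈ nm u.range := by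
      rw [MonoidHom.range_eq_map]
      exact nm_of_ind hF.au.mem hg'
    have n2 : g' ∈ nm (A.map u) :=
      nm_of_ind (f := F) (fun a ha => by rw [e' a ha]; exact hf.au.mem a ha) fun a _ => hg' a trivial
    have c1 : g'⁻¹ * g ∈ ce (A.map u) := mem_ce.2 (by
      rintro _ ⟨a, ha, rfl⟩
      have := (hg' a trivial).trans (e' a ha ▸ (e a ha).symm)
      calc u a * (g'⁻¹ * g) = g'⁻¹ * (g' * u a * g'⁻¹) * g := by group
        _ = _ := by rw [this]; group)
    have := mul_mem (nm_sup n1 (nm_ce n2)) (Subgroup.le_normalizer (Subgroup.mem_sup_right c1))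
    simpa using this
  · obtain ⟨a, ha, c, hc, rfl⟩ := (mem_sup_of_nm fun a ha => nm_ce (nS ha)).1 hg
    obtain ⟨m, hm⟩ := h.pg_range ⟨a, ha⟩
    have hm' : a ^ p ^ m = 1 := congrArg Subtype.val hm
    refine ⟨m, ?_⟩
    have key : ∀ n : ℕ, (a ^ n)⁻¹ * (a * c) ^ n ∈ ce (A.map u) := fun n => by
      induction n with
      | zero => simp
      | succ n ih =>
        have := mul_mem (conj_mem (inv_mem (nm_ce (nS ha))) ih) hc
        convert this using 1
        rw [pow_succ, pow_succ]; group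
    simpa [hm'] using key (p ^ m)

theorem Two.ess' (h : Two p u Q T) {E : Subgroup G} (hE : (groupFusionSystem u.range).IsEssential p E) :
    (E = Q.map u ∧ ∃ f, Fa u Q f ∧ ¬ Ext u Q f) ∨ (E = T.map u ∧ ∃ f, Fa u T f ∧ ¬ Ext u T f) := by
  have e0 : (E.comap u).map u = E := Subgroup.map_comap_eq_self hE.1.1
  rcases h.ess _ _ (h.sat.pr hE) with e | e
  · rw [e] at e0
    subst e0
    exact Or.inl ⟨rfl, h.sat.not_ext hE h.nQ⟩
  · rw [e] at e0
    subst e0
    exact Or.inr ⟨rfl, h.sat.not_ext hE h.nT⟩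

theorem Two.real (h : Two p u Q T) (hn : ∀ f, Fa u Q f → Ext u Q f) :
    (groupFusionSystem u.range).IsRealizable p := by
  obtain ⟨G', _, ι, h1, h2, h3, -⟩ := H92.exists_model h.sat.pg_range (SPQ.constr h.sat.pg_range h.sat.sat
    fun E E' hE hE' => by
      rcases h.ess' hE with ⟨-, f, a, a'⟩ | ⟨a, -⟩
      · exact (a' (hn f a)).elim
      rcases h.ess' hE' with ⟨-, f, b, b'⟩ | ⟨b, -⟩
      · exact (b' (hn f b)).elim
      exact a.trans b.symm)
  exact ⟨G', _, h1, ι, h2, h3⟩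

/-- Frattini argument: `f` is an automorphism trivial on `B` times an extendable one -/
theorem Sat.frat (h : Sat p u) (hA : ∀ s, Nm A s) (hB : B ≤ A) (hc : ∀ s, ∀ b ∈ B, s * b = b * s)
    (hi : ∀ f, Fa u A f → ∀ b ∈ B, f b ∈ B) (hf : Fa u A f) :
    ∃ l F, Fa u A l ∧ (∀ b ∈ B, l b = b) ∧ Fa u ⊤ F ∧ (∀ a ∈ A, F a ∈ A) ∧ ∀ a ∈ A, f a = l (F a) := by
  obtain ⟨g, hg⟩ := hf.ind
  have gA : g ∈ nm (A.map u) := nm_of_ind hf.au.mem hg
  have gB : g ∈ nm (B.map u) := nm_of_ind (hi f hf) fun b hb => hg b (hB hb)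
  have gL : g ∈ nm (nm (A.map u) ⊓ ce (B.map u)) := SR3.nm_inf (SR3.nm_nm gA) (SR3.nm_ce gB)
  obtain ⟨l, hl, e⟩ := (h.loc hA).frat (nm (A.map u) ⊓ ce (B.map u)) (le_inf (Fus.range_nm hA) (by
      rintro _ ⟨s, rfl⟩
      refine SR3.mem_ce.2 ?_
      rintro _ ⟨b, hb, rfl⟩
      rw [← map_mul, ← map_mul, hc s b hb]))
    (le_inf (SR3.ce_le_nm le_rfl) (Subgroup.centralizer_le (Subgroup.map_mono hB))) inf_le_left g gA gL
  rw [MonoidHom.range_eq_map] at e
  obtain ⟨F, hF, eF⟩ := Fa.of_nm h.inj e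
  have hc' := SR3.conj_mem gL (inv_mem hl)
  obtain ⟨l', hl', el⟩ := Fa.of_nm h.inj hc'.1
  have FA : ∀ a ∈ A, F a ∈ A := fun a ha => by
    have := SR3.conj_mem (mul_mem gA hl.1) (⟨a, ha, rfl⟩ : u a ∈ A.map u)
    rwa [eF a trivial, Subgroup.mem_map_iff_mem h.inj] at this
  refine ⟨l', F, hl', fun b hb => h.inj ?_, hF, FA, fun a ha => h.inj ?_⟩
  · rw [← el b (hB hb), ← SR3.mem_ce.1 hc'.2 (u b) ⟨b, hb, rfl⟩, mul_inv_cancel_right]
  · rw [← el _ (FA a ha), ← eF a trivial, ← hg a ha]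
    group

end Cfsg.Agent.FK
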