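import Cfsg.Agent.FK.Fus

/-! Project FK: trivial intersection and extension.  See `notes/FK.md`. -/

set_option autoImplicit false
set_option linter.unusedSectionVars false

namespace Cfsg.Agent.FK

open RFS (Au)
open SR3 (nm ce St)
open scoped commutatorElement

variable {H G : Type*} [Group H] [Group G] [Finite H] [Finite G] {p : ℕ} [Fact p.Prime] {u : H →* G}
  {B Q T : Subgroup H} {f : H → H}

namespace TI

open SR3 Subgroup

theorem ce_of {E : Subgroup G} {a b : G} (h : ∀ y ∈ E, a * y * a⁻¹ = b * y * b⁻¹) : a⁻¹ * b ∈ ce E :=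
  mem_ce.2 fun y hy => by
    calc y * (a⁻¹ * b) = a⁻¹ * (a * y * a⁻¹) * b := by group
      _ = _ := by rw [h y hy]; group

theorem of_nmS (hu : Function.Injective u) {n : G} (hn : n ∈ nm u.range) :
    ∃ F, Fa u ⊤ F ∧ ∀ a, n * u a * n⁻¹ = u (F a) := by
  rw [MonoidHom.range_eq_map] at hn
  obtain ⟨F, hF, e⟩ := Fa.of_nm hu hn
  exact ⟨F, hF, fun a => e a trivial⟩

theorem nmS_of {F : H → H} {n : G} (e : ∀ a ∈ (⊤ : Subgroup H), n * u a * n⁻¹ = u (F a)) : n ∈ nm u.range := by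
  rw [MonoidHom.range_eq_map]
  exact nm_of_ind (fun _ _ => trivial) e

theorem nmS_le (h : Two p u Q T) : nm u.range ≤ nm (Q.map u) := fun _ hn =>
  let ⟨F, hF, e⟩ := of_nmS h.sat.inj hn
  nm_of_ind (h.chQ F hF.au) fun a _ => e a

theorem range_le (hn : ∀ s, Nm B s) : u.range ≤ nm (B.map u) := by
  rintro _ ⟨s, rfl⟩
  exact nm_of_ind (f := fun a => s * a * s⁻¹) (hn s) fun a _ => by simp

theorem M_le (h : Two p u Q T) : nm u.range ⊔ ce (Q.map u) ≤ nm (Q.map u) := sup_le (nmS_le h) (ce_le_nm le_rfl)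

theorem mem_M (h : Two p u Q T) {g : G} :
    g ∈ nm u.range ⊔ ce (Q.map u) ↔ ∃ n ∈ nm u.range, ∃ c ∈ ce (Q.map u), n * c = g :=
  mem_sup_of_nm fun _ hn => nm_ce (nmS_le h hn)

theorem M_of {n g : G} (hn : n ∈ nm u.range) (e : ∀ y ∈ Q.map u, n * y * n⁻¹ = g * y * g⁻¹) :
    g ∈ nm u.range ⊔ ce (Q.map u) := by
  simpa using mul_mem (mem_sup_left hn : n ∈ nm u.range ⊔ ce (Q.map u)) (mem_sup_right (ce_of e))

theorem ext_iff (h : Two p u Q T) {g : G} (e : ∀ a ∈ Q, g * u a * g⁻¹ = u (f a)) :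
    g ∈ nm u.range ⊔ ce (Q.map u) ↔ Ext u Q f := by
  constructor
  · intro hg
    obtain ⟨n, hn, c, hc, rfl⟩ := (mem_M h).1 hg
    obtain ⟨F, hF, eF⟩ := of_nmS h.sat.inj hn
    refine ⟨F, hF, fun a ha => h.sat.inj ?_⟩
    rw [← eF, ← e a ha]
    calc n * u a * n⁻¹ = n * (u a * c) * c⁻¹ * n⁻¹ := by group
      _ = _ := by rw [mem_ce.1 hc (u a) ⟨a, ha, rfl⟩]; group
  · rintro ⟨F, hF, eF⟩
    obtain ⟨n, hn⟩ := hF.ind
    refine M_of (nmS_of hn) ?_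
    rintro _ ⟨a, ha, rfl⟩
    rw [hn a trivial, e a ha, eF a ha]

theorem notMem_map (hu : Function.Injective u) {x : H} (hx : x ∉ Q) : u x ∉ Q.map u := by
  rintro ⟨a, ha, e⟩
  exact hx (hu e ▸ ha)

/-- a morphism on a subgroup properly containing `Q` extends to the whole group -/
theorem alp (h : Two p u Q T) {R : Subgroup G} (hQ : Q.map u ≤ R) {x : H} (hx : x ∉ Q) (hR : u x ∈ R)
    {φ : G → G} (hφ : H91.M (groupFusionSystem u.range) R φ) : ∃ n ∈ nm u.range, ∀ a ∈ R, φ a = n * a * n⁻¹ := by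
  refine H91.alperin_induction h.sat.pg_range h.sat.sat
    (C := fun F => ∃ n ∈ nm u.range, ∀ a ∈ R, F a = n * a * n⁻¹)
    (fun F hF => ⟨1, one_mem _, fun a ha => by rw [hF a ha]; group⟩)
    (fun F F' E α _ ⟨n, hn, e⟩ hE hα h1 h2 => ?_) hφ
  rcases hE with rfl | hE
  · obtain ⟨k, hk, rfl⟩ := (fus_mem_aut le_rfl).1 hα
    refine ⟨k * n, mul_mem hk hn, fun a ha => ?_⟩
    rw [h2 a ha, H91.efn_cjAut _ _ _ (h1 a ha), e a ha]; group
  exfalso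
  rcases h.ess' hE with ⟨rfl, -⟩ | ⟨rfl, -⟩
  · have := conj_mem (inv_mem (nmS_le h hn)) (h1 _ hR)
    rw [e _ hR] at this
    exact notMem_map h.sat.inj hx (by simpa [mul_assoc] using this)
  · refine h.QT fun a ha => by_contra fun k => ?_
    have m : u a ∈ R := hQ ⟨a, ha, rfl⟩
    have := conj_mem (inv_mem (nmS_le h.symm hn)) (h1 _ m)
    rw [e _ m] at this
    exact notMem_map h.sat.inj k (by simpa [mul_assoc] using this)

/-- the extendable elements form a strongly embedded subgroup -/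
theorem key (h : Two p u Q T) {g : G} (hg : g ∈ nm (Q.map u)) {x : H} (hx : x ∉ Q)
    (e : g * u x * g⁻¹ ∈ nm u.range ⊔ ce (Q.map u)) : g ∈ nm u.range ⊔ ce (Q.map u) := by
  have l := h.sat.loc h.nQ
  obtain ⟨m, hm, e1⟩ := syl_conj (p := p) (K := ce (Q.map u)) (P := zpowers (g * u x * g⁻¹)) l.pg l.norm l.syl
    le_rfl (fun _ => nm_ce) (le_normalizer.trans le_sup_left) (M_le h) (zpowers_le.2 e) (by
      rintro _ ⟨i, rfl⟩
      obtain ⟨k, hk⟩ := h.sat.pg (x ^ i)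
      refine ⟨k, ?_⟩
      simp only [conj_zpow, conj_pow, ← map_zpow, ← map_pow, hk, map_one, mul_one, mul_inv_cancel, one_mem])
  have e2 : m * (g * u x * g⁻¹) * m⁻¹ ∈ u.range ⊔ ce (Q.map u) :=
    (e1.trans (sup_le_sup_left inf_le_left _)) (conj_mem_cj m (mem_zpowers _))
  obtain ⟨s, hs, c, hc, e3⟩ := (mem_sup_of_nm fun _ k => nm_ce (l.norm k)).1 e2
  have hn : m * g ∈ nm (Q.map u) := mul_mem (M_le h hm) hg
  have hf : H91.M (groupFusionSystem u.range) (Q.map u) fun y => m * g * y * (m * g)⁻¹ :=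
    H91.M_group_iff.2 ⟨l.le, fun y hy => l.le (conj_mem hn hy), m * g, fun _ _ => rfl⟩
  obtain ⟨φ, hφ, e4⟩ := hf.extend (H91.mem_normalizer_iff_im_conj.1 hn)
    (H91.sat_receptive' l.pg h.sat.sat (H91.isFullyNormalized_of_normal _ l.le l.norm))
    (R := zpowers (u x)) (zpowers_le.2 (H91.mem_extSub.2 ⟨⟨⟨x, rfl⟩, l.norm ⟨x, rfl⟩⟩, s, hs, fun y hy => by
      have := mem_ce.1 hc _ (conj_mem hn hy)
      calc m * g * (u x * y * (u x)⁻¹) * (m * g)⁻¹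
          = m * (g * u x * g⁻¹) * m⁻¹ * (m * g * y * (m * g)⁻¹) * (m * (g * u x * g⁻¹) * m⁻¹)⁻¹ := by group
        _ = s * (c * (m * g * y * (m * g)⁻¹)) * c⁻¹ * s⁻¹ := by rw [← e3]; group
        _ = _ := by rw [← this]; group⟩))
  obtain ⟨n, hn', e5⟩ := alp h le_sup_left hx (mem_sup_right (mem_zpowers _)) hφ
  exact (mul_mem_cancel_left hm).1 (M_of hn' fun y hy => (e5 y (mem_sup_left hy)).symm.trans (e4 y hy))

theorem dih {X : Type*} [Group X] {a b : X} (ha : a * a = 1) (hb : b * b = 1) {j : ℕ}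
    (h : (a * b) ^ (2 * j + 1) = 1) : ((a * b) ^ (j + 1))⁻¹ * a * (a * b) ^ (j + 1) * b⁻¹ = 1 := by
  have ib : b⁻¹ = b := inv_eq_of_mul_eq_one_right hb
  have e1 : a * (a * b) * a⁻¹ = (a * b)⁻¹ := by
    rw [← mul_assoc, ha, one_mul, mul_inv_rev, ib]
  have e2 : a * (a * b) ^ (j + 1) = ((a * b) ^ (j + 1))⁻¹ * a := by
    rw [← inv_pow, ← e1, conj_pow, inv_mul_cancel_right]
  have e3 : (a * b) ^ (j + 1) * (a * b) ^ (j + 1) = a * b := by
    rw [← pow_add, show j + 1 + (j + 1) = 2 * j + 1 + 1 by ring, pow_succ, h, one_mul]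
  calc _ = ((a * b) ^ (j + 1))⁻¹ * (a * (a * b) ^ (j + 1)) * b⁻¹ := by group
    _ = ((a * b) ^ (j + 1) * (a * b) ^ (j + 1))⁻¹ * (a * b⁻¹) := by rw [e2, mul_inv_rev]; simp only [mul_assoc]
    _ = 1 := by rw [e3, ib, inv_mul_cancel]

theorem dih' {E : Subgroup G} {a b : G} (ha : a ∈ nm E) (hb : b ∈ nm E) (aa : a * a ∈ E) (bb : b * b ∈ E) {j : ℕ}
    (h : (a * b) ^ (2 * j + 1) ∈ E ⊔ ce E) :
    ((a * b) ^ (j + 1))⁻¹ * a * (a * b) ^ (j + 1) * b⁻¹ ∈ E ⊔ ce E := by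
  have n0 : nm E ≤ nm (E ⊔ ce E) := fun a ha => nm_sup ha (nm_ce ha)
  have nr : ((E ⊔ ce E).subgroupOf (nm E)).Normal :=
    ⟨fun a ha b => mem_subgroupOf.2 (conj_mem (n0 b.2) (mem_subgroupOf.1 ha))⟩
  obtain ⟨π, hπ⟩ : ∃ π : nm E →* nm E ⧸ (E ⊔ ce E).subgroupOf (nm E), ∀ a, π a = 1 ↔ (a : G) ∈ E ⊔ ce E :=
    ⟨QuotientGroup.mk' _, fun a => QuotientGroup.eq_one_iff a⟩
  lift a to nm E using ha
  lift b to nm E using hb
  have := dih (a := π a) (b := π b) (j := j) (by rw [← map_mul, hπ]; exact mem_sup_left aa)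
    (by rw [← map_mul, hπ]; exact mem_sup_left bb) (by rw [← map_mul, ← map_pow, hπ]; exact h)
  rw [← map_mul, ← map_pow, ← map_inv, ← map_inv, ← map_mul, ← map_mul, ← map_mul, hπ] at this
  exact this

end TI

/-- an automorphism of `Q` that conjugates one non-inner element of `Aut_H(Q)` to an extendable automorphism
extends -/
theorem Two.ti (h : Two p u Q T) (hf : Fa u Q f) {x : H} (hx : x ∉ Q) {F : H → H} (hF : Fa u ⊤ F)
    (e : ∀ a ∈ Q, f (x * a * x⁻¹) = F (f a)) : Ext u Q f := by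
  obtain ⟨g, hg⟩ := hf.ind
  obtain ⟨n, hn⟩ := hF.ind
  refine (TI.ext_iff h hg).1 (TI.key h (nm_of_ind hf.au.mem hg) hx (TI.M_of (TI.nmS_of hn) ?_))
  rintro _ ⟨b, hb, rfl⟩
  obtain ⟨a, ha, rfl⟩ := hf.au.sur b hb
  rw [hn _ trivial, ← e a ha, ← hg _ (h.nQ x a ha), ← hg a ha, map_mul, map_mul, map_inv]
  group

/-- the stabilizer of `B` consists of extendable automorphisms or gives a pair -/
theorem Two.ext_or (h : Two p u Q T) (hB : B ≤ Q) (hn : ∀ s, Nm B s) (hf : Fa u Q f) (hi : ∀ b ∈ B, f b ∈ B) :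
    Ext u Q f ∨ ∃ L, Pr p u Q L ∧ Iv u Q L B := by
  obtain ⟨g, hg⟩ := hf.ind
  have l := h.sat.loc h.nQ
  by_cases c : nm (Q.map u) ⊓ nm (B.map u) ≤ nm u.range ⊔ ce (Q.map u)
  · exact Or.inl ((TI.ext_iff h hg).1 (c ⟨nm_of_ind hf.au.mem hg, nm_of_ind hi fun a ha => hg a (hB ha)⟩))
  have le : NC u Q ≤ nm (Q.map u) ⊓ nm (B.map u) :=
    sup_le (le_inf inf_le_right (inf_le_left.trans (TI.range_le hn)))
      (le_inf (SR3.ce_le_nm le_rfl) (SR3.ce_le_nm (Subgroup.map_mono hB)))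
  refine Or.inr ⟨_, ⟨h.sat.pg, h.sat.inj, fun k => h.TQ (k ▸ le_top), h.cQ, inf_le_left, le, fun k => l.syl ?_,
    _, sup_le_sup_right (inf_le_left.trans Subgroup.le_normalizer) _, c,
    fun g hg x _ hx k => TI.key h hg.1 hx k⟩, hB, inf_le_right⟩
  have := k.mul_right ((nm (Q.map u) ⊓ nm (B.map u)).relIndex (nm (Q.map u)))
  rwa [Subgroup.relIndex_mul_relIndex _ _ _ le inf_le_left, NC, inf_eq_left.2 l.norm] at this

/-- in characteristic two all involutions of `H / Q` are conjugate -/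
theorem Two.trans2 (h : Two 2 u Q T) (hf : Fa u Q f) (hn : ¬ Ext u Q f) {x y : H} (hx : x ∉ Q) (hy : y ∉ Q)
    (hxx : x * x ∈ Q) (hyy : y * y ∈ Q) : ∃ F, Fa u ⊤ F ∧ F x * y⁻¹ ∈ Q := by
  have : Fact (Nat.Prime 2) := ⟨Nat.prime_two⟩
  obtain ⟨g, hg⟩ := hf.ind
  have l := h.sat.loc h.nQ
  have gn := nm_of_ind hf.au.mem hg
  have xx : u x * u x ∈ Q.map u := ⟨_, hxx, map_mul u x x⟩
  have yy : u y * u y ∈ Q.map u := ⟨_, hyy, map_mul u y y⟩
  have xn : u x ∈ nm (Q.map u) := l.norm ⟨x, rfl⟩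
  have yn : u y ∈ nm (Q.map u) := l.norm ⟨y, rfl⟩
  have l1 : u.range ≤ nm u.range ⊔ ce (Q.map u) := Subgroup.le_normalizer.trans le_sup_left
  obtain ⟨⟨_, ⟨j, rfl⟩, hk⟩, -⟩ := RFS.Ess.se l (sup_le l1 le_sup_right) (TI.M_le h)
    (by
      rintro g hg _ ⟨x, rfl⟩ hx k
      exact TI.key h hg (fun m => hx ⟨x, m, rfl⟩) k)
    gn (fun k => hn ((TI.ext_iff h hg).1 k)) ⟨x, rfl⟩ (TI.notMem_map h.sat.inj hx) xx ⟨y, rfl⟩
    (TI.notMem_map h.sat.inj hy) yy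
  have an : g * u x * g⁻¹ ∈ nm (Q.map u) := mul_mem (mul_mem gn xn) (inv_mem gn)
  have d := TI.dih' an yn (by
    rw [show g * u x * g⁻¹ * (g * u x * g⁻¹) = g * (u x * u x) * g⁻¹ by group]
    exact SR3.conj_mem gn xx) yy hk
  have δn := pow_mem (mul_mem an yn) (j + 1)
  generalize (g * u x * g⁻¹ * u y) ^ (j + 1) = δ at d δn
  have l0 : Q.map u ⊔ ce (Q.map u) ≤ nm u.range ⊔ ce (Q.map u) := sup_le (l.le.trans l1) le_sup_right
  have d' : δ⁻¹ * g * u x * (δ⁻¹ * g)⁻¹ * (u y)⁻¹ ∈ Q.map u ⊔ ce (Q.map u) := by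
    convert d using 1; group
  have w := TI.key h (mul_mem (inv_mem δn) gn) hx (by
    simpa using mul_mem (l0 d') (l1 ⟨y, rfl⟩))
  obtain ⟨n, hn', c, hc, e⟩ := (TI.mem_M h).1 w
  obtain ⟨F, hF, eF⟩ := TI.of_nmS h.sat.inj hn'
  refine ⟨F, hF, ?_⟩
  have c1 : n * (u x * c * (u x)⁻¹ * c⁻¹) * n⁻¹ ∈ ce (Q.map u) :=
    SR3.conj_mem (SR3.nm_ce (TI.nmS_le h hn')) (mul_mem (SR3.conj_mem (SR3.nm_ce xn) hc) (inv_mem hc))
  have m : u (F x * y⁻¹) ∈ Q.map u ⊔ ce (Q.map u) := by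
    have := mul_mem (Subgroup.mem_sup_right c1) (e ▸ d')
    convert this using 1
    rw [map_mul, map_inv, ← eF]; group
  obtain ⟨_, ⟨q, hq, rfl⟩, c', hc', e'⟩ :=
    (SR3.mem_sup_of_nm fun _ k => SR3.nm_ce (Subgroup.le_normalizer k)).1 m
  have e2 : c' = u (q⁻¹ * (F x * y⁻¹)) := by rw [map_mul, ← e', map_inv, inv_mul_cancel_left]
  have := h.cQ (q⁻¹ * (F x * y⁻¹)) fun a ha => h.sat.inj (by
    rw [map_mul, map_mul u a, ← e2]
    exact (SR3.mem_ce.1 hc' _ ⟨a, ha, rfl⟩).symm)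
  simpa using mul_mem hq this

end Cfsg.Agent.FK
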